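import Cfsg.Agent.H6.Cert
import Cfsg.Agent.H6.Fi24.Pres
import Cfsg.Agent.H6.Fi24.C1.B0
import Cfsg.Agent.H6.Fi24.C1.B1
import Cfsg.Agent.H6.Fi24.C1.B2
import Cfsg.Agent.H6.Fi24.C1.B3
import Cfsg.Agent.H6.Fi24.C1.B4
import Cfsg.Agent.H6.Fi24.C1.B5
import Cfsg.Agent.H6.Fi24.C1.B6
import Cfsg.Agent.H6.Fi24.C1.B7
import Cfsg.Agent.H6.Fi24.C1.B8
import Cfsg.Agent.H6.Fi24.C1.B9
import Cfsg.Agent.H6.Fi24.C1.B10
import Cfsg.Agent.H6.Fi24.C1.B11
import Cfsg.Agent.H6.Fi24.C1.B12
import Cfsg.Agent.H6.Fi24.C1.B13
import Cfsg.Agent.H6.Fi24.C1.B14
import Cfsg.Agent.H6.Fi24.C1.B15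
import Cfsg.Agent.H6.Fi24.C1.B16
import Cfsg.Agent.H6.Fi24.C1.B17
import Cfsg.Agent.H6.Fi24.C1.B18
import Cfsg.Agent.H6.Fi24.C1.B19
import Cfsg.Agent.H6.Fi24.C1.B20
import Cfsg.Agent.H6.Fi24.C1.B21
import Cfsg.Agent.H6.Fi24.C1.B22
import Cfsg.Agent.H6.Fi24.C1.B23
import Cfsg.Agent.H6.Fi24.C1.B24
import Cfsg.Agent.H6.Fi24.C1.B25
import Cfsg.Agent.H6.Fi24.C1.B26
import Cfsg.Agent.H6.Fi24.C1.B27
import Cfsg.Agent.H6.Fi24.C1.B28
import Cfsg.Agent.H6.Fi24.C1.B29
import Cfsg.Agent.H6.Fi24.C1.B30
import Cfsg.Agent.H6.Fi24.C1.B31
import Cfsg.Agent.H6.Fi24.C1.B32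
import Cfsg.Agent.H6.Fi24.C1.B33
import Cfsg.Agent.H6.Fi24.C1.B34
import Cfsg.Agent.H6.Fi24.C1.B35
import Cfsg.Agent.H6.Fi24.C1.B36

set_option autoImplicit false
set_option maxRecDepth 100000
set_option Elab.async false

namespace Cfsg.H6.Fi24.C1

def sg : List (List ℕ) := [[], [1], [2], [3], [4], [5], [6], [7], [8], [9], [10], [11], [12], [1], [1], [2], [2], [3], [3], [4], [4], [5], [5], [6], [6], [7], [7], [8], [8], [9], [9], [10], [10], [12], [12]]

def BL : List ℕ := [0x10d, 0x20f, 0x311, 0x413, 0x515, 0x617, 0x719, 0x81b, 0x91d, 0xa1f, 0xc21, 0xb020b02, 0xb030b03, 0xb040b04, 0xb050b05, 0xb060b06, 0xb070b07, 0xb0a0b0a, 0xb080b08, 0xb090b09, 0x1030103, 0x1040104, 0x1050105, 0x1060106, 0x1070107, 0x10a010a, 0x1080108, 0x1090109, 0x10b010b010b, 0xc020c02, 0xc030c03, 0xc040c04, 0xc050c05, 0xc060c06, 0xc070c07, 0xc0a0c0a, 0xc080c08, 0xc090c09, 0xc0b0c0b0c0b, 0x20b020b, 0x2040204, 0x2050205, 0x2060206, 0x2070207, 0x20a020a, 0x2080208, 0x2090209, 0x20102010201, 0xc010c01, 0x30b030b, 0x3010301, 0x3050305, 0x3060306, 0x3070307, 0x30a030a, 0x3080308, 0x3090309, 0x30203020302, 0xb0c0b0c0b0c,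 0xb010b010b01, 0x40b040b, 0x4010401, 0x4020402, 0x4060406, 0x4070407, 0x40a040a, 0x4090409, 0x40304030403, 0x50b050b, 0x5010501, 0x5020502, 0x5030503, 0x5070507, 0x50a050a, 0x5090509, 0x50405040504, 0x80b080b, 0x8010801, 0x8020802, 0x8030803, 0x8060806, 0x8070807, 0x80a080a, 0x80408040804, 0x10c010c, 0x10201020102, 0x60b060b, 0x6010601, 0x6020602, 0x6030603, 0x6040604, 0x60a060a, 0x6090609, 0x60506050605, 0x8050805, 0x90b090b, 0x9010901, 0x9020902, 0x9030903, 0x9040904, 0x9060906, 0x9070907, 0x90a090a, 0x90809080908, 0x70b070b, 0x7010701, 0x7020702, 0x7030703, 0x7040704, 0x7050705, 0x7090709, 0x70607060706, 0x40504050405, 0x40804080408, 0x9050905, 0x20c020c, 0x20302030203, 0xa0b0a0b, 0xa010a01, 0xa020a02, 0xa030a03, 0xa040a04, 0xa050a05, 0xa060a06, 0xa090a09, 0xa070a070a07, 0x30403040304, 0xa080a08, 0x5080508, 0x50605060506, 0x80908090809, 0x30c030c, 0x6080608, 0x60706070607, 0x40c040c, 0x7080708, 0x70a070a070a, 0x50c050c, 0x80c080c, 0x102030405060801020304050608010203040506080102030405060801020304050608010203040506080102030405060801020304050608010203040506080c, 0x606, 0x707, 0xc0c,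 0x909, 0xb0b, 0x101, 0x202, 0x303, 0x404, 0x505, 0x808, 0x70c070c, 0x90c090c, 0x60c060c, 0xa0c0a0c, 0xc080605040302010806050403020108060504030201080605040302010806050403020108060504030201080605040302010806050403020108060504030201, 0x0, 0xa0a, 0x908040a070605040c0b010203040908040a070605040c0b010203040908040a070605040c0b010203040908040a070605040c0b010203040908040a070605040c0b010203040908040a070605040c0b010203040908040a070605040c0b010203040908040a070605040c0b010203040908040a070605040c0b010203040908040a070605040c0b010203040908040a070605040c0b010203040908040a070605040c0b010203040908040a070605040c0b010203040908040a070605040c0b010203040908040a070605040c0b010203040908040a070605040c0b010203040908040a070605040c0b01020304]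

def Sub : List (List ℕ) := [[1], [2], [3], [4], [5], [6], [7], [8], [9], [10], [12]]

theorem hA : prepA 954154417186781389109644624128 Fi24.R sg 251433620313418347826368578021553735323475699495440094962014236368293180205864976640 BL Sub get gd = true := by decide +kernel

theorem hw : allR (okW BL gwh) 0 303 = true := by decide +kernel

theorem hb : ∀ b, 4 ≤ b → b < 67504 → blk get gs (gwB gwh 303) gd 251433620313418347826368578021553735323475699495440094962014236368293180205864976640 b = true :=
  (range_join (range_join (range_join (range_join (range_join (range_join (allR_range b0 (by norm_num : 4 + 620 = 624)) (range_join (allR_range b1 (by norm_num : 624 + 628 = 1252)) (allR_range b2 (by norm_num : 1252 + 636 = 1888)))) (range_join (allR_range b3 (by norm_num : 1888 + 642 = 2530)) (range_join (allR_range b4 (by norm_num : 2530 + 637 = 3167)) (allR_range b5 (by norm_num : 3167 + 635 = 3802))))) (range_join (range_join (allR_range b6 (by norm_num : 3802 + 637 = 4439)) (range_join (allR_range b7 (by norm_num : 4439 + 658 = 5097)) (allR_range b8 (by norm_num : 5097 + 632 = 5729))))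 (range_join (range_join (allR_range b9 (by norm_num : 5729 + 665 = 6394)) (allR_range b10 (by norm_num : 6394 + 636 = 7030))) (range_join (allR_range b11 (by norm_num : 7030 + 649 = 7679)) (allR_range b12 (by norm_num : 7679 + 673 = 8352)))))) (range_join (range_join (range_join (allR_range b13 (by norm_num : 8352 + 637 = 8989)) (range_join (allR_range b14 (by norm_num : 8989 + 650 = 9639)) (allR_range b15 (by norm_num : 9639 + 685 = 10324)))) (range_join (range_join (allR_range b16 (by norm_num : 10324 + 644 = 10968)) (allR_range b17 (by norm_num : 10968 + 641 = 11609))) (range_join (allR_range b18 (by norm_num : 11609 + 657 = 12266)) (allR_range b19 (by norm_num : 12266 + 684 = 12950))))) (range_join (range_join (allR_range b20 (by norm_num : 12950 + 654 = 13604)) (range_join (allR_range b21 (by norm_num : 13604 + 645 = 14249)) (allR_range b22 (by norm_num : 14249 + 650 = 14899)))) (range_join (range_join (allR_range b23 (by norm_num : 14899 + 663 = 15562)) (allR_range b24 (by norm_num : 15562 + 685 = 16247))) (range_join (allR_range b25 (by norm_num : 16247 + 648 = 16895)) (allR_range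 b26 (by norm_num : 16895 + 646 = 17541))))))) (range_join (range_join (range_join (range_join (allR_range b27 (by norm_num : 17541 + 633 = 18174)) (range_join (allR_range b28 (by norm_num : 18174 + 647 = 18821)) (allR_range b29 (by norm_num : 18821 + 672 = 19493)))) (range_join (allR_range b30 (by norm_num : 19493 + 616 = 20109)) (range_join (allR_range b31 (by norm_num : 20109 + 628 = 20737)) (allR_range b32 (by norm_num : 20737 + 644 = 21381))))) (range_join (range_join (allR_range b33 (by norm_num : 21381 + 622 = 22003)) (range_join (allR_range b34 (by norm_num : 22003 + 618 = 22621)) (allR_range b35 (by norm_num : 22621 + 628 = 23249)))) (range_join (range_join (allR_range b36 (by norm_num : 23249 + 627 = 23876)) (allR_range b37 (by norm_num : 23876 + 631 = 24507))) (range_join (allR_range b38 (by norm_num : 24507 + 646 = 25153)) (allR_range b39 (by norm_num : 25153 + 613 = 25766)))))) (range_join (range_join (range_join (allR_range b40 (by norm_num : 25766 + 620 = 26386)) (range_join (allR_range b41 (by norm_num : 26386 + 633 = 27019)) (allR_range b42 (by norm_num : 27019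 + 624 = 27643)))) (range_join (range_join (allR_range b43 (by norm_num : 27643 + 632 = 28275)) (allR_range b44 (by norm_num : 28275 + 648 = 28923))) (range_join (allR_range b45 (by norm_num : 28923 + 619 = 29542)) (allR_range b46 (by norm_num : 29542 + 617 = 30159))))) (range_join (range_join (allR_range b47 (by norm_num : 30159 + 627 = 30786)) (range_join (allR_range b48 (by norm_num : 30786 + 627 = 31413)) (allR_range b49 (by norm_num : 31413 + 632 = 32045)))) (range_join (range_join (allR_range b50 (by norm_num : 32045 + 636 = 32681)) (allR_range b51 (by norm_num : 32681 + 649 = 33330))) (range_join (allR_range b52 (by norm_num : 33330 + 610 = 33940)) (allR_range b53 (by norm_num : 33940 + 620 = 34560)))))))) (range_join (range_join (range_join (range_join (range_join (allR_range b54 (by norm_num : 34560 + 630 = 35190)) (range_join (allR_range b55 (by norm_num : 35190 + 626 = 35816)) (allR_range b56 (by norm_num : 35816 + 630 = 36446)))) (range_join (allR_range b57 (by norm_num : 36446 + 637 = 37083)) (range_join (allR_range b58 (by norm_num : 37083 + 651 = 37734)) (allR_range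 b59 (by norm_num : 37734 + 610 = 38344))))) (range_join (range_join (allR_range b60 (by norm_num : 38344 + 620 = 38964)) (range_join (allR_range b61 (by norm_num : 38964 + 624 = 39588)) (allR_range b62 (by norm_num : 39588 + 630 = 40218)))) (range_join (range_join (allR_range b63 (by norm_num : 40218 + 631 = 40849)) (allR_range b64 (by norm_num : 40849 + 629 = 41478))) (range_join (allR_range b65 (by norm_num : 41478 + 648 = 42126)) (allR_range b66 (by norm_num : 42126 + 630 = 42756)))))) (range_join (range_join (range_join (allR_range b67 (by norm_num : 42756 + 612 = 43368)) (range_join (allR_range b68 (by norm_num : 43368 + 616 = 43984)) (allR_range b69 (by norm_num : 43984 + 626 = 44610)))) (range_join (range_join (allR_range b70 (by norm_num : 44610 + 625 = 45235)) (allR_range b71 (by norm_num : 45235 + 631 = 45866))) (range_join (allR_range b72 (by norm_num : 45866 + 628 = 46494)) (allR_range b73 (by norm_num : 46494 + 643 = 47137))))) (range_join (range_join (allR_range b74 (by norm_num : 47137 + 629 = 47766)) (range_join (allR_range b75 (by norm_num : 47766 + 608 = 48374))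 (allR_range b76 (by norm_num : 48374 + 616 = 48990)))) (range_join (range_join (allR_range b77 (by norm_num : 48990 + 621 = 49611)) (allR_range b78 (by norm_num : 49611 + 625 = 50236))) (range_join (allR_range b79 (by norm_num : 50236 + 620 = 50856)) (allR_range b80 (by norm_num : 50856 + 625 = 51481))))))) (range_join (range_join (range_join (range_join (allR_range b81 (by norm_num : 51481 + 632 = 52113)) (range_join (allR_range b82 (by norm_num : 52113 + 634 = 52747)) (allR_range b83 (by norm_num : 52747 + 606 = 53353)))) (range_join (allR_range b84 (by norm_num : 53353 + 607 = 53960)) (range_join (allR_range b85 (by norm_num : 53960 + 617 = 54577)) (allR_range b86 (by norm_num : 54577 + 618 = 55195))))) (range_join (range_join (allR_range b87 (by norm_num : 55195 + 616 = 55811)) (range_join (allR_range b88 (by norm_num : 55811 + 623 = 56434)) (allR_range b89 (by norm_num : 56434 + 624 = 57058)))) (range_join (range_join (allR_range b90 (by norm_num : 57058 + 626 = 57684)) (allR_range b91 (by norm_num : 57684 + 601 = 58285))) (range_join (allR_range b92 (by norm_num : 58285 +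 598 = 58883)) (allR_range b93 (by norm_num : 58883 + 612 = 59495)))))) (range_join (range_join (range_join (allR_range b94 (by norm_num : 59495 + 607 = 60102)) (range_join (allR_range b95 (by norm_num : 60102 + 611 = 60713)) (allR_range b96 (by norm_num : 60713 + 615 = 61328)))) (range_join (range_join (allR_range b97 (by norm_num : 61328 + 608 = 61936)) (allR_range b98 (by norm_num : 61936 + 586 = 62522))) (range_join (allR_range b99 (by norm_num : 62522 + 604 = 63126)) (allR_range b100 (by norm_num : 63126 + 586 = 63712))))) (range_join (range_join (allR_range b101 (by norm_num : 63712 + 596 = 64308)) (range_join (allR_range b102 (by norm_num : 64308 + 579 = 64887)) (allR_range b103 (by norm_num : 64887 + 558 = 65445)))) (range_join (range_join (allR_range b104 (by norm_num : 65445 + 592 = 66037)) (allR_range b105 (by norm_num : 66037 + 550 = 66587))) (range_join (allR_range b106 (by norm_num : 66587 + 558 = 67145)) (allR_range b107 (by norm_num : 67145 + 359 = 67504)))))))))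

def X : List (List ℕ) := [[1], [2], [3], [4], [5], [6], [7], [8], [9], [10], [11], [12]]

theorem hC : prepC sg 251433620313418347826368578021553735323475699495440094962014236368293180205864976640 X 12 306936 4796 = true := by decide +kernel

theorem hc : ∀ t, 0 ≤ t → t < 12 * 4796 → clo get gc 306936 4320512 4796 t = true :=
  (range_join (range_join (range_join (range_join (range_join (allR_range c0 (by norm_num : 0 + 1562 = 1562)) (allR_range c1 (by norm_num : 1562 + 1562 = 3124))) (range_join (allR_range c2 (by norm_num : 3124 + 1562 = 4686)) (allR_range c3 (by norm_num : 4686 + 1562 = 6248)))) (range_join (range_join (allR_range c4 (by norm_num : 6248 + 1562 = 7810)) (allR_range c5 (by norm_num : 7810 + 1562 = 9372))) (range_join (allR_range c6 (by norm_num : 9372 + 1562 = 10934)) (range_join (allR_range c7 (by norm_num : 10934 + 1562 = 12496)) (allR_range c8 (by norm_num : 12496 + 1562 = 14058)))))) (range_join (range_join (range_join (allR_range c9 (by norm_num : 14058 + 1562 = 15620)) (allR_range c10 (by norm_num : 15620 + 1562 = 17182))) (range_join (allR_range c11 (by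 norm_num : 17182 + 1562 = 18744)) (allR_range c12 (by norm_num : 18744 + 1562 = 20306)))) (range_join (range_join (allR_range c13 (by norm_num : 20306 + 1562 = 21868)) (allR_range c14 (by norm_num : 21868 + 1562 = 23430))) (range_join (allR_range c15 (by norm_num : 23430 + 1562 = 24992)) (range_join (allR_range c16 (by norm_num : 24992 + 1562 = 26554)) (allR_range c17 (by norm_num : 26554 + 1562 = 28116))))))) (range_join (range_join (range_join (range_join (allR_range c18 (by norm_num : 28116 + 1562 = 29678)) (allR_range c19 (by norm_num : 29678 + 1562 = 31240))) (range_join (allR_range c20 (by norm_num : 31240 + 1562 = 32802)) (allR_range c21 (by norm_num : 32802 + 1562 = 34364)))) (range_join (range_join (allR_range c22 (by norm_num : 34364 + 1562 = 35926)) (allR_range c23 (by norm_num : 35926 + 1562 = 37488))) (range_join (allR_range c24 (by norm_num : 37488 + 1562 = 39050)) (range_join (allR_range c25 (by norm_num : 39050 + 1562 = 40612)) (allR_range c26 (by norm_num : 40612 + 1562 = 42174)))))) (range_join (range_join (range_join (allR_range c27 (by norm_num : 42174 + 1562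 = 43736)) (allR_range c28 (by norm_num : 43736 + 1562 = 45298))) (range_join (allR_range c29 (by norm_num : 45298 + 1562 = 46860)) (range_join (allR_range c30 (by norm_num : 46860 + 1562 = 48422)) (allR_range c31 (by norm_num : 48422 + 1562 = 49984))))) (range_join (range_join (allR_range c32 (by norm_num : 49984 + 1562 = 51546)) (allR_range c33 (by norm_num : 51546 + 1562 = 53108))) (range_join (allR_range c34 (by norm_num : 53108 + 1562 = 54670)) (range_join (allR_range c35 (by norm_num : 54670 + 1562 = 56232)) (allR_range c36 (by norm_num : 56232 + 1320 = 57552))))))))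

theorem cover {G : Type*} [Group G] {ev : ℕ → G} (hev : Good ev 954154417186781389109644624128) (hR : Rels ev Fi24.R) :
    Cover (gen ev Sub) (gen ev X) 306936 :=
  cert_cover hev hR hA hC hw hb (by norm_num) hc


end Cfsg.H6.Fi24.C1
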